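import Groth.Agent.Misc4.QCohDTensor
import Groth.Agent.CohTwo.HomTensorCorep
import Groth.Agent.CohTwo.ExtZChart
import Groth.Agent.DerivedCoh.PCoh.TensorPerfect
import Groth.Agent.DerivedCoh.PCoh.ModuleFP

/-!
Derived tensor products of bounded above objects with coherent cohomology.
-/

universe u

open CategoryTheory CategoryTheory.Limits AlgebraicGeometry HomologicalComplex Pretriangulated

namespace Groth.IntMult.CohDTensor

open Groth.DerivedCoh.KFlat (T IsKFlat tot totL totR flatResolution)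
open Groth.DerivedCoh.PCoh (Below)
open Groth.Misc4.QCohDPerf Groth.Misc4.QCohDLeft Groth.Misc4.QCohDColim Groth.Misc4.QCohDTensor
open Groth.KTheory.Perf Groth.KTheory

attribute [local instance] HasDerivedCategory.standard

set_option maxHeartbeats 1000000

local notation "up" => ComplexShape.up ℤ

variable {X : Scheme.{u}}

lemma isCohD_of_iso {K L : DCoh.D X} (e : K ≅ L) (h : DCoh.IsCohD K) : DCoh.IsCohD L := fun i =>
  Groth.QCohMod.isCoh_of_iso ((DerivedCategory.homologyFunctor X.Modules i).mapIso e) (h i)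

lemma isCohD_shift {K : DCoh.D X} (h : DCoh.IsCohD K) (n : ℤ) : DCoh.IsCohD (K⟦n⟧) := fun i =>
  Groth.QCohMod.isCoh_of_iso
    (Groth.DerivedCoh.PCoh.hShiftIso n i (n + i) rfl |>.app K).symm (h _)

lemma isQCohD_of_isCohD {K : DCoh.D X} (h : DCoh.IsCohD K) : DCoh.IsQCohD K := fun i => (h i).1

/-- the middle of an exact sequence with coherent ends -/
theorem isCoh_middle [IsLocallyNoetherian X] {S : ShortComplex X.Modules} (h : S.Exact)
    (h₁ : Coh.IsCoh S.X₁) (h₃ : Coh.IsCoh S.X₃) (h₂ : S.X₂.IsQuasicoherent) : Coh.IsCoh S.X₂ := by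
  haveI := h₁.1
  haveI := h₃.1
  haveI : (cokernel S.f).IsQuasicoherent := Groth.QCohMod.isQCoh_cokernel S.f
  haveI : (kernel S.f).IsQuasicoherent := Groth.QCohMod.isQCoh_kernel S.f
  have hI : Coh.IsCoh (cokernel (kernel.ι S.f)) := Groth.QCohMod.isCoh_cokernel _ h₁
  let j : cokernel (kernel.ι S.f) ⟶ S.X₂ := (Abelian.factorThruCoimage S.f)
  haveI : Mono j := inferInstanceAs (Mono (Abelian.factorThruCoimage S.f))
  haveI : Mono (cokernel.desc S.f S.g S.zero) := h.mono_cokernelDesc
  have hC : Coh.IsCoh (cokernel S.f) :=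
    Groth.QCohMod.isCoh_of_mono (cokernel.desc S.f S.g S.zero) h₃
  have hcomp : cokernel.π (kernel.ι S.f) ≫ j = S.f := Abelian.coimage.fac S.f
  let σ : ShortComplex X.Modules := ShortComplex.mk j (cokernel.π S.f) (by
    rw [← cancel_epi (cokernel.π (kernel.ι S.f)), ← Category.assoc, hcomp, cokernel.condition,
      comp_zero])
  have hσ : σ.Exact := by
    let T : ShortComplex X.Modules := ShortComplex.mk S.f (cokernel.π S.f) (cokernel.condition S.f)
    let φ : T ⟶ σ :=
      { τ₁ := cokernel.π (kernel.ι S.f)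
        τ₂ := 𝟙 _
        τ₃ := 𝟙 _
        comm₁₂ := hcomp.trans (Category.comp_id _).symm
        comm₂₃ := by simp [σ, T] }
    haveI : Epi φ.τ₁ := inferInstanceAs (Epi (cokernel.π _))
    haveI : IsIso φ.τ₂ := inferInstanceAs (IsIso (𝟙 _))
    haveI : Mono φ.τ₃ := inferInstanceAs (Mono (𝟙 _))
    exact (ShortComplex.exact_iff_of_epi_of_isIso_of_mono φ).1
      (ShortComplex.exact_of_g_is_cokernel T (cokernelIsCokernel S.f))
  exact Groth.QCohMod.isCoh_of_shortExact (S := σ)
    { exact := hσ, mono_f := inferInstanceAs (Mono j), epi_g := inferInstanceAs (Epi (cokernel.π _)) }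
    hI hC

/-- on an affine scheme coherent modules are quotients of finite free modules -/
theorem exists_epi_finite_free [IsAffine X] (M : X.Modules) (hM : Coh.IsCoh M) :
    ∃ (ι : Type u) (_ : Finite ι) (p : (∐ fun _ : ι => Coh.structureModule X) ⟶ M), Epi p := by
  haveI := hM.1
  haveI := ((Groth.QCohMod.isCoh_iff M).1 hM).2 ⊤ (isAffineOpen_top X)
  obtain ⟨n, m, hm⟩ := Module.Finite.exists_fin (R := Γ(X, ⊤)) (M := Γ(M, (⊤ : X.Opens)))
  refine ⟨ULift.{u} (Fin n), inferInstance, Groth.QCohMod.freeHom M (m ∘ ULift.down),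
    Groth.QCohMod.epi_freeHom M _ fun x => eq_top_iff.2 fun t _ => ?_⟩
  obtain ⟨a, s, ha, hs⟩ :=
    Groth.QCohMod.exists_smul_germ_eq M (isAffineOpen_top X) x (Set.mem_univ x) t
  have hu := (Scheme.mem_basicOpen X a x (Set.mem_univ x)).mp ha
  rw [← Submodule.smul_mem_iff_of_isUnit _ hu, hs]
  have hs' : s ∈ Submodule.span Γ(X, ⊤) (Set.range m) := hm.ge trivial
  clear hs
  induction hs' using Submodule.span_induction with
  | mem s hs =>
    obtain ⟨i, rfl⟩ := hs
    exact Submodule.subset_span ⟨⟨i⟩, rfl⟩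
  | zero => rw [map_zero]; exact Submodule.zero_mem _
  | add y z _ _ h₁ h₂ => rw [map_add]; exact Submodule.add_mem _ h₁ h₂
  | smul r y _ h => rw [Groth.QCohMod.germ_smul]; exact Submodule.smul_mem _ _ h

section

variable (G : DCoh.D X ⥤ DCoh.D X) {c : ℤ}

/-- coherent modules in a single degree, by descending induction -/
theorem isCoh_single [IsLocallyNoetherian X] [IsAffine X] (hG : TriTr G)
    (hb : ∀ m C, Below m C → Below (m + c) (G.obj C))
    (hq : ∀ C, DCoh.IsQCohD C → DCoh.IsQCohD (G.obj C))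
    (hfree : ∀ (ι : Type u) [Finite ι] (n : ℤ), DCoh.IsCohD (G.obj
      ((DerivedCategory.singleFunctor X.Modules n).obj (∐ fun _ : ι => Coh.structureModule X)))) :
    ∀ (k : ℕ) (M : X.Modules), Coh.IsCoh M → ∀ n j : ℤ, n + 1 + c ≤ j + k →
      Coh.IsCoh (DCoh.HD (G.obj ((DerivedCategory.singleFunctor X.Modules n).obj M)) j) := by
  intro k
  induction k with
  | zero =>
    intro M _ n j hj
    exact isCoh_of_isZero (hb _ _ (below_single M n) j (by simpa using hj))
  | succ k ih =>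
    intro M hM n j hj
    obtain ⟨ι, hι, p, hp⟩ := exists_epi_finite_free M hM
    haveI := hM.1
    haveI := isQCoh_free (X := X) ι
    have hP : Coh.IsCoh (∐ fun _ : ι => Coh.structureModule X) :=
      Groth.KTheory.LocFree.isCoh (Groth.DerivedCoh.PCoh.isFinLocFree_freeOn ι)
    have hK : Coh.IsCoh (kernel p) := Groth.QCohMod.isCoh_kernel p hP
    have hS : (ShortComplex.mk (kernel.ι p) p (kernel.condition p)).ShortExact :=
      { exact := ShortComplex.exact_of_f_is_kernel _ (kernelIsKernel p) }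
    have hS' := hS.map_of_exact (HomologicalComplex.single X.Modules up n)
    obtain ⟨S', hT, ⟨i₁⟩, ⟨i₂⟩, ⟨i₃⟩⟩ := hG _ (DerivedCategory.triangleOfSES_distinguished hS')
    let H := DerivedCategory.homologyFunctor X.Modules
    have h₁ : Coh.IsCoh ((H j).obj S'.obj₂) :=
      Groth.QCohMod.isCoh_of_iso ((H j).mapIso i₂).symm (hfree ι n j)
    have h₃ : Coh.IsCoh ((H (j + 1)).obj S'.obj₁) :=
      Groth.QCohMod.isCoh_of_iso ((H (j + 1)).mapIso i₁).symm (ih _ hK n (j + 1) (by omega))
    have h₂ : ((H j).obj S'.obj₃).IsQuasicoherent :=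
      (Groth.QCohMod.isQCoh_iff_of_iso ((H j).mapIso i₃).symm).1
        (hq _ (fun i => by
          by_cases h : i = n
          · subst h
            exact (Groth.QCohMod.isQCoh_iff_of_iso
              ((DerivedCategory.singleFunctorCompHomologyFunctorIso X.Modules i).app M).symm).1 hM.1
          · exact isQCoh_isZero (by
              rcases lt_or_gt_of_ne h with h | h
              · exact DerivedCategory.isZero_of_isGE ((DerivedCategory.singleFunctor X.Modules n).obj M) n i h
              · exact DerivedCategory.isZero_of_isLE ((DerivedCategory.singleFunctor X.Modules n).obj M) n i h)) j)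
    exact Groth.QCohMod.isCoh_of_iso ((H j).mapIso i₃)
      (isCoh_middle (DerivedCategory.HomologySequence.exact₃ S' hT j (j + 1) rfl) h₁ h₃ h₂)

/-- bounded above objects with coherent cohomology -/
theorem isCohD_of_below [IsLocallyNoetherian X] [IsAffine X] (hG : TriTr G)
    (hb : ∀ m C, Below m C → Below (m + c) (G.obj C))
    (hq : ∀ C, DCoh.IsQCohD C → DCoh.IsQCohD (G.obj C))
    (hfree : ∀ (ι : Type u) [Finite ι] (n : ℤ), DCoh.IsCohD (G.obj
      ((DerivedCategory.singleFunctor X.Modules n).obj (∐ fun _ : ι => Coh.structureModule X))))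
    {m : ℤ} (C : DCoh.D X) (hC : Below m C) (hc : DCoh.IsCohD C) :
    DCoh.IsCohD (G.obj C) := fun j => by
  have hGz : ∀ Z : DCoh.D X, IsZero Z → DCoh.IsCohD (G.obj Z) := fun Z hZ i =>
    isCoh_of_isZero (hb (i - c) Z
      (fun l _ => (DerivedCategory.homologyFunctor X.Modules l).map_isZero hZ) i (by omega))
  let F := DerivedCategory.Q.objPreimage C
  let eF : DerivedCategory.Q.obj F ≅ C := DerivedCategory.Q.objObjPreimageIso C
  let a := j - c
  obtain ⟨γ, hT⟩ := Groth.TruncFactor.exists_triangle F (a - 1) a (by omega)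
  obtain ⟨S', hS', ⟨i₁⟩, ⟨i₂⟩, ⟨i₃⟩⟩ := hG _ hT
  have h₁ : Below a (DerivedCategory.Q.obj (F.truncLE (a - 1))) := fun i hi => by
    haveI : (DerivedCategory.Q.obj (F.truncLE (a - 1))).IsLE (a - 1) := inferInstance
    exact DerivedCategory.isZero_of_isLE _ (a - 1) i (by omega)
  have hh : ∀ i, a ≤ i → Nonempty ((DerivedCategory.homologyFunctor X.Modules i).obj C ≅
      (DerivedCategory.homologyFunctor X.Modules i).obj (DerivedCategory.Q.obj (F.truncGE a))) :=
    fun i hi => by
      haveI : QuasiIsoAt (F.πTruncGE a) i := F.quasiIsoAt_πTruncGE _ _ hi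
      have hi' := (quasiIsoAt_iff_isIso_homologyMap (F.πTruncGE a) i).1 inferInstance
      exact ⟨(DerivedCategory.homologyFunctor X.Modules i).mapIso eF.symm ≪≫
        (DerivedCategory.homologyFunctorFactors X.Modules i).app F ≪≫
        @asIso _ _ _ _ (HomologicalComplex.homologyMap (F.πTruncGE a) i) hi' ≪≫
        ((DerivedCategory.homologyFunctorFactors X.Modules i).app _).symm⟩
  haveI hge : (DerivedCategory.Q.obj (F.truncGE a)).IsGE a := inferInstance
  let b := max m a
  haveI : (DerivedCategory.Q.obj (F.truncGE a)).IsLE b := by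
    rw [DerivedCategory.isLE_iff]
    intro i hi
    exact (hC i (by omega)).of_iso (hh i (by omega)).some.symm
  let P : ObjectProperty X.Modules := fun M => Coh.IsCoh M
  haveI : P.IsClosedUnderIsomorphisms := ⟨fun e h => Groth.QCohMod.isCoh_of_iso e h⟩
  have h₃ : DCoh.IsCohD (G.obj (DerivedCategory.Q.obj (F.truncGE a))) := by
    refine Groth.DerivedAdj.devissage P (fun Z => DCoh.IsCohD (G.obj Z))
      (fun e h => isCohD_of_iso (G.mapIso e) h) hGz (fun T hT' h h' => ?_)
      (fun M hM n i => isCoh_single G hG hb hq hfree (n + 1 + c - i).toNat M hM n i (by omega))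
      _ a b (fun i => ?_) (fun M hM => isCoh_of_isZero hM)
    · obtain ⟨S, hS, ⟨l₁⟩, ⟨l₂⟩, ⟨l₃⟩⟩ := hG T hT'
      have k₁ := isCohD_of_iso l₁.symm h
      have k₃ := isCohD_of_iso l₃.symm h'
      have k₂ := isQCohD_obj₂ S hS (isQCohD_of_isCohD k₁) (isQCohD_of_isCohD k₃)
      exact isCohD_of_iso l₂ fun i =>
        isCoh_middle (DerivedCategory.HomologySequence.exact₂ S hS i) (k₁ i) (k₃ i) (k₂ i)
    · by_cases hi : a ≤ i
      · exact Groth.QCohMod.isCoh_of_iso (hh i hi).some (hc i)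
      · exact isCoh_of_isZero (DerivedCategory.isZero_of_isGE _ a i (by omega))
  refine Groth.QCohMod.isCoh_of_iso
    ((DerivedCategory.homologyFunctor X.Modules j).mapIso (i₂ ≪≫ G.mapIso eF))
    (isCoh_middle (DerivedCategory.HomologySequence.exact₂ S' hS' j)
      (isCoh_of_isZero (((hb _ _ h₁).of_iso i₁.symm) j (by omega)))
      (isCohD_of_iso i₃.symm h₃ j) ?_)
  exact (Groth.QCohMod.isQCoh_iff_of_iso
    ((DerivedCategory.homologyFunctor X.Modules j).mapIso (i₂ ≪≫ G.mapIso eF))).2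
      (hq C (isQCohD_of_isCohD hc) j)

end

/-- a bounded above flat complex tensored with a complex bounded above -/
theorem below_tot {P R : CochainComplex X.Modules ℤ} {a b : ℤ}
    (ha : ∀ q, a < q → IsZero (P.X q)) (hb : ∀ q, b < q → IsZero (R.X q)) :
    ∀ i, a + b < i → IsZero (DCoh.HD (DCoh.toD X (tot (T X) P R)) i) := fun i hi => by
  rw [Groth.DerivedCoh.KFlat.isZero_hd_toD_iff]
  refine ExactAt.of_isZero ((IsZero.iff_id_eq_zero _).2 (mapBifunctor.hom_ext fun p q h => ?_))
  have h' : p + q = i := h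
  refine IsZero.eq_of_src ?_ _ _
  by_cases hp : a < p
  · exact Functor.isZero_iff _ |>.1 ((T X).map_isZero (ha p hp)) _
  · exact ((T X).obj (P.X p)).map_isZero (hb q (by omega))

/-- coherence of `P ⊗ R` on an affine scheme -/
theorem isCohD_tot_affine [IsLocallyNoetherian X] [IsAffine X] (P R : CochainComplex X.Modules ℤ)
    (a b : ℤ) (ha : ∀ q, a < q → IsZero (P.X q))
    (hb : ∀ q, b < q → IsZero (R.X q)) (hf : ∀ q, FlatMod.IsFlat (R.X q))
    (hP : DCoh.IsCohD (DCoh.toD X P)) (hR : DCoh.IsCohD (DCoh.toD X R)) :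
    DCoh.IsCohD (DCoh.toD X (tot (T X) P R)) := by
  have hk : IsKFlat (T X) R := Groth.DerivedCoh.KFlat.isKFlat_of_flat (T X) R b hb
    fun q => Groth.DerivedCoh.KFlat.flat_of_isFlat (hf q)
  haveI := Groth.DerivedCoh.KFlat.hasLTensorCx_of_isKFlat R hk
  refine isCohD_of_iso (Groth.DerivedCoh.KFlat.ltcxIso R hk P) (isCohD_of_below (c := b)
    (m := a + 1) (DCoh.LTensorCx R) (triTr_ltcx R hk) (fun m D hD => ?_)
    (fun C hC => isQCohD_LTensorCx R (isQCohD_of_isCohD hR) hC) (fun ι _ n => ?_) _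
    (fun i hi => (Groth.DerivedCoh.KFlat.isZero_hd_toD_iff P i).2 (ExactAt.of_isZero (ha i (by omega))))
    hP)
  · obtain ⟨E, -, -, h0, ⟨e⟩⟩ := Groth.DerivedCoh.PCoh.exists_flat_rep_of_below hD
    intro i hi
    exact Groth.DerivedCoh.KFlat.isZero_hd_of_iso ((DCoh.LTensorCx R).mapIso e.symm ≪≫
      Groth.DerivedCoh.KFlat.ltcxIso R hk E)
      (below_tot (a := m - 1) (fun q hq => h0 q (by omega)) hb i (by omega))
  · let N := ∐ fun _ : ι => Coh.structureModule X
    have hN : FlatMod.IsFinLocFree N := Groth.DerivedCoh.PCoh.isFinLocFree_freeOn ι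
    let G := (T X).obj N
    have hG : ∀ S : ShortComplex X.Modules, S.ShortExact → (S.map G).ShortExact :=
      Groth.DerivedCoh.KFlat.flat_flip_of_isFlat (isFlat_free ι)
    obtain ⟨hl, hr⟩ : PreservesFiniteLimits G ∧ PreservesFiniteColimits G :=
      ((Functor.exact_tfae G).out 0 3).1 hG
    have hq : DCoh.IsCohD (DCoh.toD X (tot (T X) ((single X.Modules up 0).obj N) R)) := fun i =>
      Groth.QCohMod.isCoh_of_iso (Groth.DerivedCoh.KFlat.hdIso _ i ≪≫
        (HomologicalComplex.homologyFunctor X.Modules up i).mapIso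
          (Groth.DerivedCoh.KFlat.totSingleIso (T X) N R) ≪≫ (R.sc i).mapHomologyIso G).symm
        (Groth.CohTwo.HomTensor.isCoh_tensorMod hN
          (Groth.QCohMod.isCoh_of_iso (Groth.DerivedCoh.KFlat.hdIso R i) (hR i)))
    let e : (single X.Modules up n).obj N ≅ ((single X.Modules up 0).obj N)⟦(-n)⟧ :=
      ((CochainComplex.singleFunctors X.Modules).shiftIso (-n) n 0 (by omega)).symm.app N
    exact isCohD_of_iso ((DerivedCategory.Q.commShiftIso (-n)).symm.app _ ≪≫
      DerivedCategory.Q.mapIso ((CochainComplex.mapBifunctorShift₁Iso _ R (T X) (-n)).symm ≪≫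
        (totL (T X) R).mapIso e.symm) ≪≫ (Groth.DerivedCoh.KFlat.ltcxIso R hk _).symm)
      (isCohD_shift hq (-n))

/-- coherence can be checked locally -/
theorem isCohD_of_local {K : DCoh.D X}
    (h : ∀ x : X, ∃ V : X.Opens, x ∈ V ∧ DCoh.IsCohD ((Rd V.ι).obj K)) : DCoh.IsCohD K := fun i =>
  isCoh_of_local fun x => by
    obtain ⟨V, hx, hV⟩ := h x
    obtain ⟨c⟩ := nonempty_hdRd V.ι K i
    exact ⟨V, hx, Groth.QCohMod.isCoh_of_iso c (hV i)⟩

theorem isCohD_restrict {U : Scheme.{u}} (j : U ⟶ X) [IsOpenImmersion j] {K : DCoh.D X}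
    (h : DCoh.IsCohD K) : DCoh.IsCohD ((Rd j).obj K) := fun i => by
  obtain ⟨c⟩ := nonempty_hdRd j K i
  exact Groth.QCohMod.isCoh_of_iso c.symm (Groth.SheafExt.isCoh_restrictFunctor j (h i))

/-- bounded above flat complexes with coherent cohomology -/
theorem isCohD_tot [IsLocallyNoetherian X] (P R : CochainComplex X.Modules ℤ) (a b : ℤ)
    (ha : ∀ q, a < q → IsZero (P.X q))
    (hb : ∀ q, b < q → IsZero (R.X q)) (hf : ∀ q, FlatMod.IsFlat (R.X q))
    (hP : DCoh.IsCohD (DCoh.toD X P)) (hR : DCoh.IsCohD (DCoh.toD X R)) :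
    DCoh.IsCohD (DCoh.toD X (tot (T X) P R)) := isCohD_of_local fun x => by
  obtain ⟨V, hV, hxV, -⟩ := exists_isAffineOpen_mem_and_subset (x := x) (U := ⊤) trivial
  haveI : IsAffine (V : Scheme.{u}) := hV
  exact ⟨V, hxV, isCohD_of_iso
    (DerivedCategory.Q.mapIso (Groth.DerivedCoh.Duality.rtTot V.ι P R) ≪≫ (rdQIso V.ι _).symm)
    (isCohD_tot_affine _ _ a b
      (fun q h => (Scheme.Modules.restrictFunctor V.ι).map_isZero (ha q h))
      (fun q h => (Scheme.Modules.restrictFunctor V.ι).map_isZero (hb q h))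
      (fun q => Groth.DerivedCoh.PCoh.isFlat_restrict V.ι (hf q))
      (isCohD_of_iso (rdQIso V.ι P) (isCohD_restrict V.ι hP))
      (isCohD_of_iso (rdQIso V.ι R) (isCohD_restrict V.ι hR)))⟩

/-- derived tensor products of bounded above objects with coherent cohomology -/
theorem isCohD_LTensorCx [IsLocallyNoetherian X] (E : CochainComplex X.Modules ℤ)
    [DCoh.HasLTensorCx E] {L : DCoh.D X} (hL : DCoh.IsCohD L) {a b : ℤ}
    (ha : ∀ i, a < i → IsZero (DCoh.HD L i))
    (hE : DCoh.IsCohD (DCoh.toD X E)) (hb : ∀ i, b < i → IsZero (DCoh.HD (DCoh.toD X E) i)) :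
    DCoh.IsCohD ((DCoh.LTensorCx E).obj L) ∧
      ∀ i, a + b < i → IsZero (DCoh.HD ((DCoh.LTensorCx E).obj L) i) := by
  obtain ⟨P, -, hPf, hP0, ⟨eP⟩⟩ :=
    Groth.DerivedCoh.PCoh.exists_flat_rep_of_below (m := a + 1) (C := L) fun i hi => ha i (by omega)
  obtain ⟨R, hRk, hRf, hR0, ⟨eR⟩⟩ :=
    Groth.DerivedCoh.PCoh.exists_flat_rep_of_below (m := b + 1) (C := DCoh.toD X E)
      fun i hi => hb i (by omega)
  haveI := Groth.DerivedCoh.KFlat.hasLTensorCx_of_isKFlat R hRk
  obtain ⟨c⟩ := Groth.DerivedCoh.PCoh.nonempty_tot_congr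
    (Groth.DerivedCoh.KFlat.flatResolution_isKFlat_flip P) eR.symm
  let e : DCoh.toD X (tot (T X) P R) ≅ (DCoh.LTensorCx E).obj L :=
    (Groth.DerivedCoh.KFlat.ltcxIso R hRk P).symm ≪≫
      (Groth.DerivedCoh.KFlat.ltcxResIso R).app P ≪≫ c.symm ≪≫
      ((Groth.DerivedCoh.KFlat.ltcxResIso E).app P).symm ≪≫ (DCoh.LTensorCx E).mapIso eP
  exact ⟨isCohD_of_iso e (isCohD_tot P R a b (fun q hq => hP0 q (by omega))
      (fun q hq => hR0 q (by omega)) hRf (isCohD_of_iso eP.symm hL) (isCohD_of_iso eR.symm hE)),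
    fun i hi => Groth.DerivedCoh.KFlat.isZero_hd_of_iso e.symm
      (below_tot (fun q hq => hP0 q (by omega)) (fun q hq => hR0 q (by omega)) i hi)⟩

end Groth.IntMult.CohDTensor
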